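import Cfsg.Agent.Deg.Wt

/-!
Tools for minimal degrees (lead): transitivity of `SL` on non-zero vectors, change of basis `slConj`, extension of the
field of a representation (`exists_ext`), the bound for `SL` (`sl_bound`).
-/

set_option autoImplicit false

namespace Cfsg.Agent.Deg

open Module Matrix

variable {F : Type*} [Field F] {ι : Type*} [Fintype ι] [DecidableEq ι]

theorem det_one_add_vv (u v : ι → F) : det (1 + vecMulVec u v) = 1 + v ⬝ᵥ u := by
  rw [vecMulVec_eq Unit, det_one_add_replicateCol_mul_replicateRow]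

theorem dual_eq_dot (f : Dual F (ι → F)) (x : ι → F) : f x = (fun i => f (Pi.single i 1)) ⬝ᵥ x := by
  rw [LinearMap.pi_apply_eq_sum_univ f x, dotProduct]
  refine Finset.sum_congr rfl fun i _ => ?_
  rw [smul_eq_mul, mul_comm]
  congr 2
  funext j
  simp [Pi.single_apply, eq_comm]

theorem exists_det_one_mulVec [Nontrivial ι] {y y' : ι → F} (hy : y ≠ 0) (hy' : y' ≠ 0) :
    ∃ g : Matrix ι ι F, det g = 1 ∧ g *ᵥ y = y' := by
  have key : ∀ y y' : ι → F, y' ≠ 0 → y ∉ Submodule.span F {y'} → ∃ g : Matrix ι ι F, det g = 1 ∧ g *ᵥ y = y' := by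
    intro y y' h0 h
    have h' : y ∉ Submodule.span F {y' - y} := fun h' => by
      obtain ⟨c, hc⟩ := Submodule.mem_span_singleton.1 h'
      by_cases h1 : 1 + c = 0
      · rw [show c = -1 by linear_combination h1] at hc
        exact h0 (by simpa using hc)
      · refine h (Submodule.mem_span_singleton.2 ⟨c / (1 + c), funext fun i => ?_⟩)
        have := congrFun hc i
        simp only [Pi.smul_apply, Pi.sub_apply, smul_eq_mul] at this ⊢
        field_simp
        linear_combination this
    obtain ⟨f, hf, hk⟩ := Submodule.exists_le_ker_of_notMem h'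
    have hk' : f (y' - y) = 0 := hk (Submodule.mem_span_singleton_self _)
    refine ⟨1 + vecMulVec (y' - y) ((f y)⁻¹ • fun i => f (Pi.single i 1)), ?_, ?_⟩
    · rw [det_one_add_vv, smul_dotProduct, ← dual_eq_dot, hk']
      simp
    · rw [add_mulVec, vecMulVec_mulVec, smul_dotProduct, ← dual_eq_dot]
      simp [hf]
  by_cases h : y ∈ Submodule.span F {y'}
  · have : Submodule.span F {y'} ≠ ⊤ := fun e => by
      have h3 := finrank_span_le_card (R := F) ({y'} : Set (ι → F))
      rw [e] at h3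
      have := Fintype.one_lt_card (α := ι)
      simp at h3
      omega
    obtain ⟨z, -, hz⟩ := SetLike.exists_of_lt (lt_top_iff_ne_top.2 this)
    obtain ⟨g, hg, e⟩ := key z y' hy' hz
    obtain ⟨g', hg', e'⟩ := key z y hy fun h' => hz ((Submodule.span_singleton_le_iff_mem _ _).2 h h')
    refine ⟨g * g'⁻¹, by simp [hg, hg'], ?_⟩
    rw [← e', mulVec_mulVec, nonsing_inv_mul_cancel_right _ _ (by simp [hg']), e]
  · exact key y y' hy' h

theorem exists_det_ne_mulVec {y y' : ι → F} (hy : y ≠ 0) (hy' : y' ≠ 0) :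
    ∃ g : Matrix ι ι F, det g ≠ 0 ∧ g *ᵥ y = y' := by
  rcases subsingleton_or_nontrivial ι with h | h
  · obtain ⟨i, hi⟩ := Function.ne_iff.1 hy
    obtain ⟨j, hj⟩ := Function.ne_iff.1 hy'
    refine ⟨(y' j / y i) • 1, by simp [div_ne_zero hj hi], funext fun k => ?_⟩
    rw [Subsingleton.elim k i, Subsingleton.elim j i]
    simp [smul_mulVec, div_mul_cancel₀ _ hi]
  · obtain ⟨g, hg, e⟩ := exists_det_one_mulVec hy hy'
    exact ⟨g, by simp [hg], e⟩

/-- A matrix of determinant one. -/
def slMk (A : Matrix ι ι F) (h : det A = 1) : SpecialLinearGroup ι F := ⟨A, h⟩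

@[simp] theorem slMk_val (A : Matrix ι ι F) (h : det A = 1) : (slMk A h).1 = A := rfl

@[simp] theorem sl_mul_val (g h : SpecialLinearGroup ι F) : (g * h).1 = g.1 * h.1 := rfl

/-- Change of basis. -/
def slConj {κ : Type*} [Fintype κ] [DecidableEq κ] (e : (κ → F) ≃ₗ[F] (ι → F)) :
    SpecialLinearGroup κ F →* SpecialLinearGroup ι F where
  toFun g := slMk (LinearMap.toMatrix' e.toLinearMap * g.1 * LinearMap.toMatrix' e.symm.toLinearMap) (by
    rw [det_conj_of_mul_eq_one, g.2] <;> simp [← LinearMap.toMatrix'_comp])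
  map_one' := Subtype.ext (by simp [← LinearMap.toMatrix'_comp])
  map_mul' g h := Subtype.ext (by
    have : LinearMap.toMatrix' e.symm.toLinearMap * LinearMap.toMatrix' e.toLinearMap = 1 := by
      simp [← LinearMap.toMatrix'_comp]
    simp only [slMk_val, sl_mul_val, Matrix.mul_assoc]
    rw [← Matrix.mul_assoc (LinearMap.toMatrix' e.symm.toLinearMap), this, Matrix.one_mul])

theorem slConj_mulVec {κ : Type*} [Fintype κ] [DecidableEq κ] (e : (κ → F) ≃ₗ[F] (ι → F))
    (g : SpecialLinearGroup κ F) (v : ι → F) : (slConj e g).1 *ᵥ v = e (g.1 *ᵥ e.symm v) := by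
  change (_ * _ * _) *ᵥ v = _
  simp [← mulVec_mulVec, LinearMap.toMatrix'_mulVec]

theorem slConj_injective {κ : Type*} [Fintype κ] [DecidableEq κ] (e : (κ → F) ≃ₗ[F] (ι → F)) :
    Function.Injective (slConj e) := fun g h H => Subtype.ext (ext_iff_mulVec.2 fun v => by
  have := congrArg (fun x : SpecialLinearGroup ι F => x.1 *ᵥ e v) H
  simpa [slConj_mulVec] using this)

theorem not_mem_ker {G G' H : Type*} [Group G] [Group G'] [MulOneClass H] {ρ : G →* H}
    (h : ρ.ker ≤ Subgroup.center G) {φ : G' →* G} (hφ : Function.Injective φ) {x l : G'} (hx : l * x * l⁻¹ ≠ x) :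
    ρ (φ x) ≠ 1 := fun e => hx (hφ (by
  rw [map_mul, map_mul, Subgroup.mem_center_iff.1 (h e), map_inv, mul_inv_cancel_right]))

universe v

theorem exists_ext [Fintype F] {G : Type*} [Group G] {K : Type v} [Field K] (hK : ringChar K ≠ ringChar F) {d : ℕ}
    (ρ : G →* GL (Fin d) K) : ∃ (K' : Type v) (_ : Field K') (ψ : AddChar F K') (ρ' : G →* End K' (Fin d → K')),
      ψ ≠ 1 ∧ (Fintype.card F : K') ≠ 0 ∧ ρ'.ker ≤ ρ.ker := by
  let P := AddChar.FiniteField.primitiveChar F K hK
  let K' := CyclotomicField P.n K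
  refine ⟨K', inferInstance, P.char, ((Matrix.toLinAlgEquiv' (R := K') (n := Fin d)).toMonoidHom.comp
    (algebraMap K K').mapMatrix.toMonoidHom).comp ((Units.coeHom _).comp ρ), ?_, ?_, fun g hg => ?_⟩
  · simpa using P.prim (a := 1) one_ne_zero
  · rw [← map_natCast (algebraMap K K'), map_ne_zero]
    obtain ⟨n, hp, hn⟩ := FiniteField.card F (ringChar F)
    rw [hn, Nat.cast_pow]
    refine pow_ne_zero _ fun h => hK ?_
    exact CharP.ringChar_of_prime_eq_zero hp h
  · have : (ρ g).1.map (algebraMap K K') = 1 := by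
      simpa using hg
    refine Units.ext (Matrix.map_injective (algebraMap K K').injective ?_)
    simpa using this

theorem exists_complex_psi (F : Type*) [Field F] [Fintype F] : ∃ ψ : AddChar F ℂ, ψ ≠ 1 :=
  ⟨AddChar.FiniteField.primitiveChar_to_Complex F, by
    simpa using AddChar.FiniteField.primitiveChar_to_Complex_isPrimitive F (a := 1) one_ne_zero⟩

theorem sl_bound [Fintype F] [Nontrivial ι] {K : Type*} [Field K] {V : Type*} [AddCommGroup V] [Module K V]
    [FiniteDimensional K V] {ψ : AddChar F K} (hψ : ψ ≠ 1) (hK : (Fintype.card F : K) ≠ 0) {G : Type*} [Group G]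
    {φ : SpecialLinearGroup (Unit ⊕ ι) F →* G} (hφ : Function.Injective φ) {ρ : G →* End K V}
    (hρ : ρ.ker ≤ Subgroup.center G) : Fintype.card F ^ Fintype.card ι - 1 ≤ finrank K V := by
  classical
  have := finite_dual (F := F) (M := ι → F)
  have := Fintype.ofFinite (Dual F (ι → F))
  let u : (ι → F) → SpecialLinearGroup (Unit ⊕ ι) F := fun a =>
    slMk (fromBlocks 1 (replicateRow Unit a) 0 1) (by simp [det_fromBlocks_zero₂₁])
  have hu : ∀ g : Matrix ι ι F, det g = 1 → ∃ l, ∀ a, l * u a * l⁻¹ = u (g.vecMulLinear a) := fun g hg =>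
    ⟨(slMk (fromBlocks (1 : Matrix Unit Unit F) 0 0 g) (by simp [det_fromBlocks_zero₂₁, hg]))⁻¹, fun a => by
      rw [inv_inv, mul_assoc, inv_mul_eq_iff_eq_mul]
      exact Subtype.ext (by simp [u, fromBlocks_multiply, replicateRow_vecMul])⟩
  obtain ⟨i, j, hij⟩ := exists_pair_ne ι
  obtain ⟨g, hg, e⟩ := exists_det_one_mulVec (F := F) (y := Pi.single i 1) (y' := Pi.single j 1) (by simp) (by simp)
  obtain ⟨l, hl⟩ := hu gᵀ (by simpa using hg)
  obtain ⟨L, hL, hw⟩ := exists_wt (ρ := ρ.comp φ) (u := u) hψ hK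
    (fun a b => Subtype.ext (by simp [u, fromBlocks_multiply, replicateRow_add, add_comm])) (a₀ := Pi.single i 1)
    (not_mem_ker hρ hφ (l := l) fun h => by
      rw [hl] at h
      have := congrArg (fun x : SpecialLinearGroup (Unit ⊕ ι) F => x.1 (.inl ()) (.inr i)) h
      simp [u, vecMul_transpose, e, hij] at this)
  have h1 := card_mul_le (ρ := ρ.comp φ) (u := u) hψ (Finset.univ.erase 0) (d := 1) fun L' hL' => by
    have h0 : ∀ L : Dual F (ι → F), L ≠ 0 → (fun i => L (Pi.single i 1)) ≠ 0 := fun L h e =>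
      h (LinearMap.ext fun x => by rw [dual_eq_dot, e]; simp)
    obtain ⟨g, hg, e⟩ := exists_det_one_mulVec (h0 L fun h => hL (by simp [h])) (h0 L' (Finset.ne_of_mem_erase hL'))
    obtain ⟨l, hl⟩ := hu g hg
    have := wt_ne_bot hl hw
    rw [show L ∘ₗ g.vecMulLinear = L' from LinearMap.ext fun a => by
      rw [dual_eq_dot L', ← e, LinearMap.comp_apply, dual_eq_dot L, dotProduct_comm, dotProduct_comm _ a,
        dotProduct_mulVec]; rfl] at this
    exact Nat.one_le_iff_ne_zero.2 fun h => this (Submodule.finrank_eq_zero.1 h)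
  rwa [Finset.card_erase_of_mem (Finset.mem_univ _), Finset.card_univ, Module.card_eq_pow_finrank (K := F),
    Subspace.dual_finrank_eq, finrank_fintype_fun_eq_card, mul_one] at h1

end Cfsg.Agent.Deg
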