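import Cfsg.Agent.Deg.Lin
import Cfsg.Agent.Classical.Parab
import Cfsg.Agent.Classical.SpSimple

/-!
Lower bounds for the degrees of representations of `Sp_{2m}(q)` in cross characteristic (lead): `sp_bound` (`q` odd).
-/

set_option autoImplicit false

namespace Cfsg.Agent.Deg

open Module Matrix Cfsg.Agent.Classical

variable {F : Type*} [Field F] {m : ℕ} {K : Type*} [Field K] {V : Type*} [AddCommGroup V] [Module K V]

theorem levi_uni (A : Matrix (Fin m) (Fin m) F) (hA : det A ≠ 0) : ∃ l : symplecticGroup (Fin m) F, ∀ S hS hS',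
    l * spUni S hS * l⁻¹ = spUni (A * S * Aᵀ) hS' := by
  refine ⟨spLevi m F (GeneralLinearGroup.mkOfDetNeZero A hA), fun S hS hS' => ?_⟩
  rw [mul_inv_eq_iff_eq_mul]
  refine Subtype.ext ?_
  have : Aᵀ * A⁻¹ᵀ = 1 := by rw [← transpose_mul, nonsing_inv_mul _ (by simpa using hA), transpose_one]
  simp [coe_spLevi, spUni, fromBlocks_multiply, Matrix.mul_assoc, this]

theorem uni_add (S T : Matrix (Fin m) (Fin m) F) (hS hT h) : spUni (S + T) h = spUni S hS * spUni T hT :=
  Subtype.ext (by simp [spUni, fromBlocks_multiply, add_comm])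

theorem uni_not_mem {S : Matrix (Fin m) (Fin m) F} (hS : S.IsSymm) (h0 : S ≠ 0) :
    spUni S hS ∉ Subgroup.center (symplecticGroup (Fin m) F) := fun h => h0 (by
  ext i j
  rcases mem_center_sp_iff.1 h with h | h <;> simpa [spUni] using congrFun (congrFun h (.inl i)) (.inr j))

theorem card_sq_le (c : F) [Fintype F] [DecidableEq F] : (Finset.univ.filter fun t => t * t = c).card ≤ 2 := by
  by_cases h : ∃ t, t * t = c
  · obtain ⟨s, rfl⟩ := h
    refine le_trans (Finset.card_le_card (t := {s, -s}) fun t ht => ?_) Finset.card_le_two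
    simpa [mul_self_eq_mul_self_iff] using ht
  · rw [Finset.filter_eq_empty_iff.2 fun t _ ht => h ⟨t, ht⟩]
    simp

theorem sp_bound [Fintype F] [FiniteDimensional K V] (h2 : (2 : F) ≠ 0) (hm : 1 ≤ m) {ψ : AddChar F K} (hψ : ψ ≠ 1)
    (hK : (Fintype.card F : K) ≠ 0) {ρ : symplecticGroup (Fin m) F →* End K V} (hρ : ρ.ker ≤ Subgroup.center _) :
    Fintype.card F ^ m - 1 ≤ 2 * finrank K V := by
  classical
  have hl : ∀ g : Matrix (Fin m) (Fin m) F, det g ≠ 0 → ∃ l : symplecticGroup (Fin m) F, ∀ Y,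
      l * spUni (Y + Yᵀ) (isSymm_add_transpose_self Y) * l⁻¹ =
        spUni (cj (RingHom.id F) g Y + (cj (RingHom.id F) g Y)ᵀ) (isSymm_add_transpose_self _) := fun g hg => by
    obtain ⟨l, hl⟩ := levi_uni g hg
    have e : ∀ Y, cj (RingHom.id F) g Y + (cj (RingHom.id F) g Y)ᵀ = g * (Y + Yᵀ) * gᵀ := fun Y => by
      simp [cj_apply, cT, Matrix.mul_add, Matrix.add_mul, Matrix.mul_assoc]
    exact ⟨l, fun Y => by rw [hl _ _ (e Y ▸ isSymm_add_transpose_self _)]; simp only [e]⟩
  have := sieg_bound (ρ := ρ) (σ := RingHom.id F) (u := fun Y => spUni (Y + Yᵀ) (isSymm_add_transpose_self Y)) hψ hK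
    (fun _ => rfl) (fun _ => rfl) ⟨1, by simpa [one_add_one_eq_two] using h2⟩ (N := 2) (fun c => card_sq_le c)
    (fun Y Z => by
      rw [← uni_add _ _ _ _ ((isSymm_add_transpose_self Y).add (isSymm_add_transpose_self Z))]
      congr 1; rw [transpose_add]; abel)
    (fun Y => by congr 1; simp [cT, add_comm]) (fun y φ h => hl _ (by simp [det_one_add_vv, h]))
    (fun y y' hy hy' => by
      obtain ⟨g, hg, e⟩ := exists_det_ne_mulVec hy hy'
      exact ⟨g, e, hl g hg⟩) (d := 1)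
    (fun L e _ h => Nat.one_le_iff_ne_zero.2 fun h' => h (Submodule.finrank_eq_zero.1 h'))
    (Y₀ := single ⟨0, hm⟩ ⟨0, hm⟩ 1) fun h => uni_not_mem _ (fun e => h2 (by
      simpa [one_add_one_eq_two] using congrFun (congrFun e ⟨0, hm⟩) ⟨0, hm⟩)) (hρ h)
  simpa using this

theorem quasisimple_sp [Finite F] (hm : 2 ≤ m) (h : m = 2 → 3 ≤ Nat.card F) :
    IsQuasisimple (symplecticGroup (Fin m) F) :=
  ⟨⟨commutator_sp_eq_top_of_finite (by omega)⟩, isSimpleGroup_PSp hm h⟩

end Cfsg.Agent.Deg
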