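import Cfsg.Agent.Deg.Sp

/-!
The lower bound for the degrees of representations of `Sp_{2m}(q)`, `q` even, in cross characteristic (lead):
`sp_even_bound`.
-/

set_option autoImplicit false

namespace Cfsg.Agent.Deg

open Module Matrix Cfsg.Agent.Classical QuadraticMap Finset

variable {F : Type*} [Field F] [Fintype F] [DecidableEq F]

theorem card_conic (h2 : (2 : F) = 0) (a b : F) {c : F} (hc : c ≠ 0) :
    #{p : F × F | a * p.1 ^ 2 + p.1 * p.2 + b * p.2 ^ 2 = c} ≤ Fintype.card F + 1 := by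
  rw [← Fintype.card_option, ← card_univ]
  have sq : ∀ x y : F, x ^ 2 = y ^ 2 → x = y := fun x y h =>
    sub_eq_zero.1 (pow_eq_zero_iff two_ne_zero |>.1 (by linear_combination h + (y ^ 2 - x * y) * h2))
  refine card_le_card_of_injOn (fun p => if p.2 = 0 then none else some (p.1 / p.2)) (fun _ _ => by simp) ?_
  rintro ⟨s, t⟩ hp ⟨s', t'⟩ hp' e
  simp only [coe_filter, mem_univ, true_and, Set.mem_ofPred_eq] at hp hp' e
  by_cases h : t = 0 <;> by_cases h' : t' = 0 <;> simp only [h, h', if_true, if_false, reduceCtorEq] at e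
  · subst h h'
    have ha : a ≠ 0 := by rintro rfl; exact hc (by simpa using hp.symm)
    rw [sq s s' (mul_left_cancel₀ ha (by linear_combination hp - hp'))]
  · obtain ⟨x, rfl⟩ : ∃ x, s = x * t := ⟨s / t, by field_simp⟩
    obtain rfl : s' = x * t' := by
      have := Option.some.inj e
      field_simp at this
      linear_combination -this
    have ha : a * x ^ 2 + x + b ≠ 0 := fun h0 => hc (by linear_combination -hp + t ^ 2 * h0)
    rw [sq t t' (mul_left_cancel₀ ha (by linear_combination hp - hp'))]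

theorem card_pairs (h2 : (2 : F) = 0) (a b α β γ : F)
    (h : α ≠ 0 ∨ ∀ s t : F, a * s ^ 2 + s * t + b * t ^ 2 = 0 → s = 0 ∧ t = 0) :
    #{p : (F × F) × F × F | a * p.1.1 ^ 2 + p.1.1 * p.1.2 + b * p.1.2 ^ 2 = α ∧
      a * p.2.1 ^ 2 + p.2.1 * p.2.2 + b * p.2.2 ^ 2 = β ∧ p.1.1 * p.2.2 + p.1.2 * p.2.1 = γ} ≤
      2 * (Fintype.card F + 1) := by
  by_cases hα : α = 0
  · have h := h.resolve_left (by simpa using hα)
    refine le_trans (card_le_card_of_injOn (t := {p : F × F | a * p.1 ^ 2 + p.1 * p.2 + b * p.2 ^ 2 = β}) Prod.snd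
      (fun p hp => by simpa using (mem_filter.1 hp).2.2.1) fun p hp p' hp' e => ?_) ?_
    · have h1 := h _ _ ((mem_filter.1 hp).2.1.trans hα)
      have h1' := h _ _ ((mem_filter.1 hp').2.1.trans hα)
      exact Prod.ext (Prod.ext (h1.1.trans h1'.1.symm) (h1.2.trans h1'.2.symm)) e
    · by_cases hβ : β = 0
      · refine le_trans (card_le_card (t := {(0, 0)}) fun p hp => ?_) (by simp; omega)
        have h1 := h _ _ ((mem_filter.1 hp).2.trans hβ)
        exact mem_singleton.2 (Prod.ext h1.1 h1.2)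
      · have := card_conic h2 a b hβ
        omega
  · refine le_trans (card_le_mul_card_image_of_maps_to (f := Prod.fst)
      (t := {p : F × F | a * p.1 ^ 2 + p.1 * p.2 + b * p.2 ^ 2 = α})
      (fun p hp => by simpa using (mem_filter.1 hp).2.1) 2 ?_) (Nat.mul_le_mul_left _ (card_conic h2 a b hα))
    rintro ⟨s, t⟩ -
    refine (show ∀ S : Finset ((F × F) × F × F), (S.Nonempty → #S ≤ 2) → #S ≤ 2 from fun S h =>
      S.eq_empty_or_nonempty.elim (fun h0 => by simp [h0]) h) _ ?_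
    rintro ⟨⟨_, x, y⟩, h0⟩
    refine le_trans (card_le_card (t := {((s, t), x, y), ((s, t), x + γ / α * s, y + γ / α * t)}) ?_) card_le_two
    rintro ⟨_, x', y'⟩ h1
    simp only [mem_filter, mem_univ, true_and] at h0 h1
    obtain ⟨⟨h3, h4, h5⟩, rfl⟩ := h0
    obtain ⟨⟨-, h6, h7⟩, rfl⟩ := h1
    obtain ⟨l, rfl, rfl⟩ : ∃ l, x' = x + l * s ∧ y' = y + l * t := by
      by_cases hs : s = 0
      · have ht : t ≠ 0 := by rintro rfl; exact hα (by simpa [hs] using h3.symm)
        exact ⟨(y' - y) / t, mul_left_cancel₀ ht (by simp only [hs] at *; linear_combination h7 - h5), by field_simp; ring⟩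
      · exact ⟨(x' - x) / s, by field_simp; ring, by
          field_simp
          simp only at h5 h7
          linear_combination h7 - h5 + (t * x - t * x') * h2⟩
    simp only at h3 h4 h5 h6 h7
    have : l * (l * α - γ) = 0 := by
      linear_combination h6 - h4 - l ^ 2 * h3 - l * h5 - (a * x * l * s + b * y * l * t + l * γ) * h2
    rcases mul_eq_zero.1 this with h | h
    · simp [h]
    · rw [show γ / α = l by field_simp; linear_combination -h]
      simp

variable {V : Type*} [AddCommGroup V] [Module F V] [Fintype V] [DecidableEq V]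

theorem card_ker2 (f : V →ₗ[F] F × F) : Fintype.card F ^ (finrank F V - 2) ≤ #{v | f v = 0} ∧
    (Function.Surjective f → #{v | f v = 0} = Fintype.card F ^ (finrank F V - 2)) := by
  have h1 := f.finrank_range_add_finrank_ker
  have h2 := Module.natCard_eq_pow_finrank (K := F) (V := LinearMap.ker f)
  have h3 : #{v | f v = 0} = Nat.card (LinearMap.ker f) := by
    rw [← Fintype.card_subtype, ← Nat.card_eq_fintype_card]; rfl
  have h4 := (LinearMap.range f).finrank_le
  rw [h3, h2, Nat.card_eq_fintype_card]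
  simp only [finrank_prod, finrank_self] at h4
  refine ⟨Nat.pow_le_pow_right Fintype.card_pos (by omega), fun h => ?_⟩
  rw [LinearMap.range_eq_top.2 h] at h1
  simp only [finrank_top, finrank_prod, finrank_self] at h1
  congr 1
  omega

theorem exists_pair (h2 : (2 : F) = 0) (Q : QuadraticForm F V) {e₀ f₀ : V} (h : polar Q e₀ f₀ ≠ 0) :
    ∃ e f, polar Q e f = 1 ∧ ((∀ s t : F, Q e * s ^ 2 + s * t + Q f * t ^ 2 = 0 → s = 0 ∧ t = 0) ∨
      (Q e ≠ 0 ∧ ∀ u, polar Q u e = 0 → polar Q u f = 0 → Q u = 0)) := by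
  have hs : ∀ x, polar Q x x = 0 := fun x => by rw [polar_self, two_smul, ← two_mul, h2, zero_mul]
  obtain ⟨f₁, h1⟩ : ∃ f₁, polar Q e₀ f₁ = 1 := ⟨(polar Q e₀ f₀)⁻¹ • f₀, by simp [h]⟩
  by_cases ha : ∀ s t : F, Q e₀ * s ^ 2 + s * t + Q f₁ * t ^ 2 = 0 → s = 0 ∧ t = 0
  · exact ⟨e₀, f₁, h1, .inl ha⟩
  push Not at ha
  obtain ⟨s, t, h3, h4⟩ := ha
  obtain ⟨e, f₂, he, h5⟩ : ∃ e f₂, Q e = 0 ∧ polar Q e f₂ = 1 := by
    have : Q (s • e₀ + t • f₁) = 0 := by
      rw [QuadraticMap.map_add Q]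
      simp [QuadraticMap.map_smul, h1]
      linear_combination h3
    by_cases hs0 : s = 0
    · exact ⟨_, t⁻¹ • e₀, this, by simp [hs, polar_comm Q f₁, h1, h4 hs0]⟩
    · exact ⟨_, s⁻¹ • f₁, this, by simp [hs, h1, hs0]⟩
  obtain ⟨f, hf, h6⟩ : ∃ f, Q f = 0 ∧ polar Q e f = 1 := ⟨f₂ + Q f₂ • e, by
    rw [QuadraticMap.map_add Q]
    simp [QuadraticMap.map_smul, polar_comm Q f₂, h5, he, ← two_mul, h2], by simp [hs, h5]⟩
  by_cases hu : ∀ u, polar Q u e = 0 → polar Q u f = 0 → Q u = 0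
  · refine ⟨e + f, f, by simp [hs, h6], .inr ⟨by simp [QuadraticMap.map_add Q, he, hf, h6], fun u h1 h2 =>
      hu u (by simpa [h2] using h1) h2⟩⟩
  push Not at hu
  obtain ⟨u, h7, h8, h9⟩ := hu
  obtain ⟨δ, hδ⟩ : ∃ δ : F, ∀ x, x ^ 2 + x ≠ δ := by
    by_contra! hc
    have := (Finite.injective_iff_surjective (f := fun x : F => x ^ 2 + x)).2 hc (a₁ := 0) (a₂ := 1)
      (by simp [one_add_one_eq_two, h2])
    exact zero_ne_one this
  obtain ⟨r, rfl⟩ := FiniteField.isSquare_of_char_two (CharP.ringChar_of_prime_eq_zero Nat.prime_two (by simpa)) δ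
  refine ⟨e + (Q u)⁻¹ • u, f + r • u, by simp [hs, h6, h8, polar_comm Q e u, h7], .inl fun s t h => ?_⟩
  simp only [QuadraticMap.map_add Q, QuadraticMap.map_smul, polar_smul_right, polar_comm Q e u, polar_comm Q f u, h7, h8,
    he, hf, smul_eq_mul] at h
  by_cases ht : t = 0
  · simpa [ht, h9] using h
  · refine (hδ (s / (Q u * t)) ?_).elim
    field_simp at h ⊢
    linear_combination h - r ^ 2 * Q u ^ 2 * t ^ 2 * h2

theorem card_le_of_pair (h2 : (2 : F) = 0) (Q : QuadraticForm F V) {e f : V} (h1 : polar Q e f = 1)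
    (h : (∀ s t : F, Q e * s ^ 2 + s * t + Q f * t ^ 2 = 0 → s = 0 ∧ t = 0) ∨
      (Q e ≠ 0 ∧ ∀ u, polar Q u e = 0 → polar Q u f = 0 → Q u = 0)) :
    #{x : Fin 2 → V | Q (x 0) = Q e ∧ Q (x 1) = Q f ∧ polar Q (x 0) (x 1) = 1} ≤
      2 * (Fintype.card F + 1) * (Fintype.card F ^ (finrank F V - 2)) ^ 2 := by
  have hs : ∀ x, polar Q x x = 0 := fun x => by rw [polar_self, two_smul, ← two_mul, h2, zero_mul]
  let φ : V →ₗ[F] F × F := (Q.polarBilin.flip f).prod (Q.polarBilin.flip e)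
  have hφ : ∀ v, φ v = (polar Q v f, polar Q v e) := fun v => rfl
  rw [← (card_ker2 φ).2 fun p => ⟨p.1 • e + p.2 • f, by simp [hφ, hs, h1, polar_comm Q f e]⟩, pow_two, ← card_product]
  let p : V → V := fun v => v - (polar Q v f • e + polar Q v e • f)
  refine card_le_mul_card_image_of_maps_to (f := fun x => (p (x 0), p (x 1)))
    (fun x _ => by simp [p, hφ, hs, h1, polar_comm Q f e]) _ ?_
  rintro ⟨u, w⟩ huw
  simp only [mem_product, mem_filter, mem_univ, true_and, hφ, Prod.mk_eq_zero] at huw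
  refine le_trans (card_le_card_of_injOn (fun x => (φ (x 0), φ (x 1))) (fun x hx => ?_) fun x hx x' hx' e' => ?_)
    (card_pairs h2 (Q e) (Q f) (Q e - Q u) (Q f - Q w) (1 - polar Q u w) (h.symm.imp_left fun h => by
      simpa [h.2 u huw.1.2 huw.1.1] using h.1))
  · simp only [coe_filter, mem_filter, mem_univ, true_and, Set.mem_ofPred_eq, Prod.mk.injEq, p, sub_eq_iff_eq_add, hφ]
      at hx ⊢
    obtain ⟨⟨h3, h4, h5⟩, h6, h7⟩ := hx
    rw [h6] at h3 h5
    rw [h7] at h4 h5
    generalize polar Q (x 0) f = s at *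
    generalize polar Q (x 0) e = t at *
    generalize polar Q (x 1) f = s' at *
    generalize polar Q (x 1) e = t' at *
    simp [QuadraticMap.map_add Q, QuadraticMap.map_smul, huw, h1, hs, polar_comm Q f e, polar_comm Q e w,
      polar_comm Q f w] at h3 h4 h5
    exact ⟨by linear_combination h3, by linear_combination h4, by linear_combination h5⟩
  · have h3 := (mem_filter.1 hx).2.trans (mem_filter.1 hx').2.symm
    simp only [hφ, Prod.mk.injEq, p] at h3 e'
    rw [e'.1.1, e'.1.2, e'.2.1, e'.2.2, sub_left_inj, sub_left_inj] at h3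
    funext i
    fin_cases i
    exacts [h3.1, h3.2]

/-- symmetric matrices. -/
def symM (ι : Type*) (F : Type*) [Field F] : Submodule F (Matrix ι ι F) where
  carrier := {S | S.IsSymm}
  add_mem' := IsSymm.add
  zero_mem' := isSymm_zero
  smul_mem' c _ h := IsSymm.smul h c

section
variable {F : Type*} [Field F] {ι : Type*} [Fintype ι] [DecidableEq ι]

theorem vv_mem (v : ι → F) : vecMulVec v v ∈ symM ι F := transpose_vecMulVec v v

/-- The quadratic form of a functional on the symmetric matrices. -/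
noncomputable def qf (L : Dual F (symM ι F)) : QuadraticForm F (ι → F) :=
  LinearMap.BilinMap.toQuadraticMap ((vecMulVecBilin F F).compr₂ (L ∘ₗ (symM ι F).subtype.leftInverse))

theorem qf_apply (L : Dual F (symM ι F)) (v : ι → F) : qf L v = L ⟨_, vv_mem v⟩ :=
  congrArg L (LinearMap.leftInverse_apply_of_inj (symM ι F).ker_subtype ⟨_, vv_mem v⟩)

/-- `S ↦ g S gᵀ`. -/
def cjS (g : Matrix ι ι F) : symM ι F →ₗ[F] symM ι F := (LinearMap.mulLeftRight F (g, gᵀ)).restrict fun S hS => by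
  change (g * S * gᵀ)ᵀ = g * S * gᵀ
  rw [transpose_mul, transpose_mul, transpose_transpose, show Sᵀ = S from hS, Matrix.mul_assoc]

theorem qf_cjS (L : Dual F (symM ι F)) (g : Matrix ι ι F) (v : ι → F) : qf (L ∘ₗ cjS g) v = qf L (g *ᵥ v) := by
  rw [qf_apply, qf_apply, LinearMap.comp_apply]
  congr 1
  refine Subtype.ext ?_
  change g * vecMulVec v v * gᵀ = _
  rw [mul_vecMulVec, vecMulVec_mul, vecMul_transpose]

theorem polar_cjS (L : Dual F (symM ι F)) (g : Matrix ι ι F) (v w : ι → F) :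
    polar (qf (L ∘ₗ cjS g)) v w = polar (qf L) (g *ᵥ v) (g *ᵥ w) := by
  simp only [polar, qf_cjS, mulVec_add]

theorem exists_det_ne_pair {x y : Fin 2 → ι → F} (hx : LinearIndependent F x) (hy : LinearIndependent F y) :
    ∃ g : Matrix ι ι F, det g ≠ 0 ∧ ∀ i, g *ᵥ x i = y i := by
  obtain ⟨g, hg⟩ := Submodule.exists_linearEquiv_restrict_eq (hx.linearCombinationEquiv.symm ≪≫ₗ hy.linearCombinationEquiv)
  refine ⟨LinearMap.toMatrix' g.toLinearMap, by simpa using (LinearEquiv.isUnit_det' g).ne_zero, fun i => ?_⟩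
  have := hg (hx.linearCombinationEquiv (Finsupp.single i 1))
  simpa [LinearMap.toMatrix'_mulVec] using this.symm

end

theorem sp_even_bound {m : ℕ} {K : Type*} [Field K] {W : Type*} [AddCommGroup W] [Module K W] [FiniteDimensional K W]
    (h2 : (2 : F) = 0) (hm : 2 ≤ m) {ψ : AddChar F K} (hψ : ψ ≠ 1) (hK : (Fintype.card F : K) ≠ 0)
    {ρ : symplecticGroup (Fin m) F →* End K W} (hρ : ρ.ker ≤ Subgroup.center _) :
    (Fintype.card F ^ m - 1) * (Fintype.card F ^ m - Fintype.card F) ≤ 2 * (Fintype.card F + 1) * finrank K W := by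
  classical
  have := finite_dual (F := F) (M := symM (Fin m) F)
  have := Fintype.ofFinite (Dual F (symM (Fin m) F))
  let u : symM (Fin m) F → symplecticGroup (Fin m) F := fun S => spUni S.1 S.2
  have hl : ∀ g : Matrix (Fin m) (Fin m) F, det g ≠ 0 → ∃ l, ∀ S, l * u S * l⁻¹ = u (cjS g S) := fun g hg =>
    (levi_uni g hg).imp fun l hl S => hl _ _ (cjS g S).2
  let i : Fin m := ⟨0, by omega⟩
  let j : Fin m := ⟨1, by omega⟩
  have hij : i ≠ j := by simp [i, j]
  obtain ⟨L₀, hL₀, hw⟩ := exists_wt (ρ := ρ) (u := u) hψ hK (fun S T => uni_add _ _ _ _ _)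
    (a₀ := ⟨_, isSymm_add_transpose_self (vecMulVec (Pi.single i 1) (Pi.single j 1))⟩) fun h => uni_not_mem _
      (fun e => by simpa [vecMulVec_apply, hij, hij.symm] using congrFun (congrFun e i) j) (hρ h)
  obtain ⟨e, f, h1, h⟩ := exists_pair h2 (qf L₀) (e₀ := Pi.single i 1) (f₀ := Pi.single j 1) fun h => hL₀ (by
    rw [← h, polar, qf_apply, qf_apply, qf_apply, ← map_sub, ← map_sub]
    congr 1
    exact Subtype.ext (by simp [add_vecMulVec, vecMulVec_add]; abel))
  have hs : ∀ (L : Dual F (symM (Fin m) F)) x, polar (qf L) x x = 0 := fun L x => by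
    rw [polar_self, two_smul, ← two_mul, h2, zero_mul]
  have hef : LinearIndependent F ![e, f] := LinearIndependent.pair_iff.2 fun s t h => by
    have h3 := congrArg (polar (qf L₀) e) h
    have h4 := congrArg (polar (qf L₀) f) h
    simp [hs, h1, polar_comm _ f e] at h3 h4
    exact ⟨h4, h3⟩
  let r := fun (x : Fin 2 → Fin m → F) (L : Dual F (symM (Fin m) F)) =>
    qf L (x 0) = qf L₀ e ∧ qf L (x 1) = qf L₀ f ∧ polar (qf L) (x 0) (x 1) = 1
  let O := univ.filter fun L : Dual F (symM (Fin m) F) => wt ρ ψ u L ≠ ⊥ ∧ #{x | r x L} ≤ #{x | r x L₀}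
  have hO : ∀ L ∈ O, ∀ g, det g ≠ 0 → L ∘ₗ cjS g ∈ O := fun L hL g hg => by
    obtain ⟨l, hl⟩ := hl g hg
    refine mem_filter.2 ⟨mem_univ _, wt_ne_bot hl (mem_filter.1 hL).2.1, le_trans (card_le_card_of_injOn
      (fun x k => g *ᵥ x k) (fun x hx => by simpa [r, qf_cjS, polar_cjS] using hx) fun x _ y _ e => funext fun k =>
        mulVec_injective_of_isUnit ((isUnit_iff_isUnit_det _).2 hg.isUnit) (congrFun e k)) (mem_filter.1 hL).2.2⟩
  have h3 := card_mul_le (ρ := ρ) (u := u) hψ O (d := 1) fun L hL =>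
    Nat.one_le_iff_ne_zero.2 fun h' => (mem_filter.1 hL).2.1 (Submodule.finrank_eq_zero.1 h')
  have h4 := card_mul_le_card_mul (s := univ.filter fun x => LinearIndependent F x) (t := O) r
    (m := (Fintype.card F ^ (m - 2)) ^ 2) (n := 2 * (Fintype.card F + 1) * (Fintype.card F ^ (m - 2)) ^ 2)
    (fun x hx => ?_) fun L hL => ?_
  · have h5 := card_linearIndependent (K := F) (V := Fin m → F) (k := 2) (by simpa using hm)
    rw [Nat.card_eq_fintype_card, Fintype.card_subtype] at h5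
    rw [h5, ← mul_assoc] at h4
    have h6 := Nat.le_of_mul_le_mul_right h4 (pow_pos (pow_pos Fintype.card_pos _) _)
    simp only [Fin.prod_univ_two, finrank_fin_fun, Fin.val_zero, Fin.val_one, pow_zero, pow_one, mul_one] at h3 h6
    exact h6.trans (by rw [mul_comm]; exact Nat.mul_le_mul_left _ h3)
  · obtain ⟨g, hg, hx'⟩ := exists_det_ne_pair (mem_filter.1 hx).2 hef
    let φ : (Fin m → F) →ₗ[F] F × F := ((dotProductBilin F F).flip (x 0)).prod ((dotProductBilin F F).flip (x 1))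
    have h5 := (card_ker2 φ).1
    rw [finrank_fin_fun] at h5
    refine le_trans (Nat.pow_le_pow_left h5 2) ?_
    rw [pow_two, ← card_product]
    have hφ : ∀ p ∈ (univ.filter fun v => φ v = 0) ×ˢ (univ.filter fun v => φ v = 0),
        (p.1 ⬝ᵥ x 0 = 0 ∧ p.1 ⬝ᵥ x 1 = 0) ∧ p.2 ⬝ᵥ x 0 = 0 ∧ p.2 ⬝ᵥ x 1 = 0 := fun p hp => by simpa [φ] using hp
    have hv : ∀ p : (Fin m → F) × (Fin m → F), p.1 ⬝ᵥ x 1 = 0 → ∀ v,
        ((1 + vecMulVec (x 0) p.1) * (1 + vecMulVec (x 1) p.2)) *ᵥ v = v + (p.1 ⬝ᵥ v) • x 0 + (p.2 ⬝ᵥ v) • x 1 :=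
      fun p hp v => by
        simp only [← mulVec_mulVec, add_mulVec, vecMulVec_mulVec, one_mulVec, op_smul_eq_smul, dotProduct_add,
          dotProduct_smul, hp, smul_zero, add_zero]
        abel
    have hx0 : g *ᵥ x 0 = e := hx' 0
    have hx1 : g *ᵥ x 1 = f := hx' 1
    refine card_le_card_of_injOn (fun p => (L₀ ∘ₗ cjS g) ∘ₗ cjS ((1 + vecMulVec (x 0) p.1) * (1 + vecMulVec (x 1) p.2)))
      (fun p hp => ?_) fun p hp p' hp' e' => ?_
    · have h6 := hφ p hp
      exact mem_filter.2 ⟨hO _ (hO _ (mem_filter.2 ⟨mem_univ _, hw, le_rfl⟩) g hg) _ (by simp [det_one_add_vv, h6]), by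
        simp [r, qf_cjS, polar_cjS, hv p h6.1.2, h6, hx0, hx1, h1]⟩
    · have h6 := hφ p hp
      have h7 := hφ p' hp'
      refine Prod.ext (funext fun k => ?_) (funext fun k => ?_)
      · simpa [polar_cjS, hv p h6.1.2, hv p' h7.1.2, h6, h7, mulVec_add, mulVec_smul, hx0, hx1, h1, hs] using
          congrArg (fun L => polar (qf L) (Pi.single k 1) (x 1)) e'
      · simpa [polar_cjS, hv p h6.1.2, hv p' h7.1.2, h6, h7, mulVec_add, mulVec_smul, hx0, hx1, h1, hs,
          polar_comm _ f e] using congrArg (fun L => polar (qf L) (Pi.single k 1) (x 0)) e'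
  · refine le_trans (card_le_card fun x hx => mem_filter.2 ⟨mem_univ _, (mem_filter.1 hx).2⟩)
      ((mem_filter.1 hL).2.2.trans ?_)
    simpa using card_le_of_pair h2 (qf L₀) h1 h

end Cfsg.Agent.Deg
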