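import Cfsg.Agent.Deg.Sp
import Mathlib.RepresentationTheory.Maschke

/-!
The Weil representation of `Sp_{2n}(q)`, `q` odd (lead): `exists_weil` (its odd part, of degree `(qⁿ - 1)/2`), and
`irr_of_min`.
-/

set_option autoImplicit false

namespace Cfsg.Agent.Deg

open Module Matrix

theorem irr_of_min {G : Type*} [Group G] [Finite G] {V : Type*} [AddCommGroup V] [Module ℂ V] [FiniteDimensional ℂ V]
    (ρ : Representation ℂ G V) {g : G} (hg : ρ g ≠ 1)
    (h : ∀ (W : Subrepresentation ρ) (g : G), W.toRepresentation g ≠ 1 → finrank ℂ V ≤ finrank ℂ W.toSubmodule) :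
    ρ.IsIrreducible := by
  have hn : Nontrivial V := by
    by_contra! hV
    exact hg (Subsingleton.elim _ _)
  have key : ∀ W : Subrepresentation ρ, W ≠ ⊤ → ∀ v ∈ W.toSubmodule, ρ g v = v := fun W hW v hv => by
    by_contra h1
    exact hW (Subrepresentation.toSubmodule_injective (Submodule.eq_top_of_finrank_eq (le_antisymm
      (Submodule.finrank_le _) (h W g fun e => h1 (congrArg Subtype.val (LinearMap.congr_fun e ⟨v, hv⟩))))))
  have : Nontrivial (Subrepresentation ρ) :=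
    ⟨⟨⊥, ⊤, fun e => bot_ne_top (congrArg Subrepresentation.toSubmodule e : (⊥ : Submodule ℂ V) = ⊤)⟩⟩
  refine ⟨fun W => ?_⟩
  by_contra! hW
  obtain ⟨W', hW'⟩ := exists_isCompl W
  refine hg (LinearMap.ext fun v => ?_)
  obtain ⟨a, ha, b, hb, rfl⟩ := Submodule.mem_sup.1
    (show v ∈ (W ⊔ W').toSubmodule by rw [hW'.sup_eq_top]; trivial)
  rw [map_add, key W hW.2 a ha, key W' (fun e => hW.1 (eq_bot_of_isCompl_top (e ▸ hW'))) b hb]
  rfl

variable {F : Type*} [Field F] {ι : Type} [Fintype ι] [DecidableEq ι] {ψ : AddChar F ℂ}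

/-- Weyl operators. -/
def weyl (ψ : AddChar F ℂ) (v : ι ⊕ ι → F) : End ℂ ((ι → F) → ℂ) where
  toFun f x := ψ (2 * (v ∘ .inr) ⬝ᵥ x + (v ∘ .inl) ⬝ᵥ (v ∘ .inr)) * f (x + v ∘ .inl)
  map_add' f g := by funext x; simp [mul_add]
  map_smul' c f := by funext x; simp [mul_left_comm]

theorem weyl_apply (v : ι ⊕ ι → F) (f : (ι → F) → ℂ) (x : ι → F) :
    weyl ψ v f x = ψ (2 * (v ∘ .inr) ⬝ᵥ x + (v ∘ .inl) ⬝ᵥ (v ∘ .inr)) * f (x + v ∘ .inl) := rfl

theorem om_eq (v w : ι ⊕ ι → F) : v ⬝ᵥ J ι F *ᵥ w = (v ∘ .inr) ⬝ᵥ (w ∘ .inl) - (v ∘ .inl) ⬝ᵥ (w ∘ .inr) := by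
  simp [J, dotProduct, mulVec, Fintype.sum_sum_type, one_apply, sub_eq_neg_add]

theorem weyl_mul (v w : ι ⊕ ι → F) : weyl ψ v * weyl ψ w = ψ (-(v ⬝ᵥ J ι F *ᵥ w)) • weyl ψ (v + w) := by
  refine LinearMap.ext fun f => funext fun x => ?_
  simp only [End.mul_apply, LinearMap.smul_apply, Pi.smul_apply, weyl_apply, smul_eq_mul, ← mul_assoc,
    ← AddChar.map_add_eq_mul, om_eq, Pi.add_comp, add_dotProduct, dotProduct_add, add_assoc]
  congr 2
  simp only [dotProduct_comm (w ∘ Sum.inr) (v ∘ Sum.inl), dotProduct_comm (w ∘ Sum.inl) (v ∘ Sum.inr)]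
  ring

theorem weyl_zero : weyl ψ (0 : ι ⊕ ι → F) = 1 := LinearMap.ext fun f => funext fun x => by simp [weyl_apply]

theorem om_self (v : ι ⊕ ι → F) : v ⬝ᵥ J ι F *ᵥ v = 0 := by rw [om_eq, dotProduct_comm, sub_self]

/-- The parity operator. -/
def par (ι F : Type*) [Neg F] : End ℂ ((ι → F) → ℂ) := LinearMap.funLeft ℂ ℂ Neg.neg

/-- `A` implements `g`. -/
def Imp (ψ : AddChar F ℂ) (g : (ι ⊕ ι → F) → ι ⊕ ι → F) (A : End ℂ ((ι → F) → ℂ)) : Prop :=
  IsUnit A ∧ ∀ v, A * weyl ψ v = weyl ψ (g v) * A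

theorem par_sq : par ι F * par ι F = 1 := LinearMap.ext fun f => funext fun x => by simp [par]

theorem imp_par : Imp ψ Neg.neg (par ι F) := ⟨⟨⟨_, _, par_sq, par_sq⟩, rfl⟩, fun v => LinearMap.ext fun f =>
  funext fun x => by simp [par, weyl_apply, Pi.neg_comp, add_comm]⟩

theorem Imp.mul {g h : (ι ⊕ ι → F) → ι ⊕ ι → F} {A B : End ℂ ((ι → F) → ℂ)} (hA : Imp ψ g A) (hB : Imp ψ h B) :
    Imp ψ (g ∘ h) (A * B) := ⟨hA.1.mul hB.1, fun v => by rw [mul_assoc, hB.2, ← mul_assoc, hA.2, mul_assoc]; rfl⟩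

variable [Fintype F] [DecidableEq F]

theorem exists_basis (h2 : (2 : F) ≠ 0) (hψ : ψ ≠ 1) :
    ∃ b : Basis (ι ⊕ ι → F) ℂ (End ℂ ((ι → F) → ℂ)), ∀ v, b v = weyl ψ v := by
  have hi : ∀ v : ι ⊕ ι → F, weyl ψ v * weyl ψ (-v) = 1 := fun v => by simp [weyl_mul, mulVec_neg, om_self, weyl_zero]
  have hli : LinearIndependent ℂ (weyl ψ : (ι ⊕ ι → F) → _) := by
    rw [Fintype.linearIndependent_iff]
    intro g hg t
    have := eigen_indep (χ := fun t : ι ⊕ ι → F => ψ.compAddMonoidHom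
        ((dotProductBilin F F).flip ((-2 : F) • J ι F *ᵥ t)).toAddMonoidHom) (fun s t e => ?_)
      (fun c => LinearMap.mulLeftRight ℂ (weyl ψ c, weyl ψ (-c))) (fun t => g t • weyl ψ t) (fun t c => ?_) hg t
    · refine (smul_eq_zero.1 this).resolve_right fun h0 => ?_
      have := hi t
      rw [h0, zero_mul] at this
      exact zero_ne_one this
    · refine mulVec_injective_of_isUnit ((isUnit_iff_isUnit_det _).2 (isUnit_det_J ι F))
        (smul_right_injective _ (neg_ne_zero.2 h2) (funext fun i => eq_of_psi hψ fun c => ?_))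
      simpa [mul_left_comm] using DFunLike.congr_fun e (Pi.single i c)
    · rw [map_smul, smul_comm, LinearMap.mulLeftRight_apply, weyl_mul, smul_mul_assoc, weyl_mul, smul_smul (ψ _),
        ← AddChar.map_add_eq_mul, add_neg_cancel_comm]
      congr 2
      change ψ _ = ψ _
      congr 1
      simp [mulVec_neg, om_self, om_eq, dotProduct_comm]
      ring
  exact ⟨basisOfLinearIndependentOfCardEqFinrank hli (by simp [Module.finrank_linearMap, pow_add]), by simp⟩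

theorem exists_imp (h2 : (2 : F) ≠ 0) (hψ : ψ ≠ 1) (g : symplecticGroup ι F) : ∃ A, Imp ψ (g.1 *ᵥ ·) A := by
  obtain ⟨b, hb⟩ := exists_basis (ι := ι) h2 hψ
  have hg : ∀ v w, (g.1 *ᵥ v) ⬝ᵥ J ι F *ᵥ g.1 *ᵥ w = v ⬝ᵥ J ι F *ᵥ w := fun v w => by
    rw [← vecMul_transpose g.1 v, ← dotProduct_mulVec, mulVec_mulVec, mulVec_mulVec, SymplecticGroup.mem_iff'.1 g.2]
  let e := b.equiv b (Equiv.ofBijective (g.1 *ᵥ ·) (Finite.injective_iff_bijective.1
    (mulVec_injective_of_isUnit ((isUnit_iff_isUnit_det _).2 (SymplecticGroup.symplectic_det g.2)))))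
  have he : ∀ v, e (weyl ψ v) = weyl ψ (g.1 *ᵥ v) := fun v => by rw [← hb, Basis.equiv_apply, hb]; rfl
  obtain ⟨T, hT⟩ := (AlgEquiv.ofLinearEquiv e (by simpa [weyl_zero] using he 0) fun x y => by
    refine (LinearMap.map_mul_iff e.toLinearMap).2 (b.ext fun v => b.ext fun w => ?_) x y
    simp [hb, he, weyl_mul, hg, mulVec_add, -mulVec_mulVec]).eq_linearEquivConjAlgEquiv
  refine ⟨T.toLinearMap, (Module.End.isUnit_iff _).2 T.bijective, fun v => ?_⟩
  have : e (weyl ψ v) = T.conjAlgEquiv ℂ (weyl ψ v) := DFunLike.congr_fun hT _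
  rw [← he, this]
  exact LinearMap.ext fun f => by simp [LinearEquiv.conjAlgEquiv_apply]

theorem Imp.uniq (h2 : (2 : F) ≠ 0) (hψ : ψ ≠ 1) {g : (ι ⊕ ι → F) → ι ⊕ ι → F} {A B : End ℂ ((ι → F) → ℂ)}
    (hA : Imp ψ g A) (hB : Imp ψ g B) : ∃ c : ℂ, B = c • A := by
  obtain ⟨b, hb⟩ := exists_basis (ι := ι) h2 hψ
  obtain ⟨A, rfl⟩ := hA.1
  obtain ⟨c, hc⟩ := (Algebra.IsCentral.mem_center_iff ℂ).1 (show (A⁻¹).1 * B ∈ Subalgebra.center ℂ _ from
    Subalgebra.mem_center_iff.2 fun x => LinearMap.congr_fun (b.ext (f₁ := LinearMap.mulRight ℂ ((A⁻¹).1 * B))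
      (f₂ := LinearMap.mulLeft ℂ ((A⁻¹).1 * B)) fun v => by
        simp only [LinearMap.mulRight_apply, LinearMap.mulLeft_apply, hb]
        rw [mul_assoc, hB.2, eq_comm, Units.inv_mul_eq_iff_eq_mul,
          ← mul_assoc, ← mul_assoc, hA.2, Units.mul_inv_cancel_right]) x)
  exact ⟨c, by rw [Units.inv_mul_eq_iff_eq_mul] at hc; rw [hc, Algebra.algebraMap_eq_smul_one, mul_smul_comm, mul_one]⟩

theorem trace_par (h2 : (2 : F) ≠ 0) : LinearMap.trace ℂ _ (par ι F) = 1 := by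
  rw [LinearMap.trace_eq_matrix_trace ℂ (Pi.basisFun ℂ _), Matrix.trace, Finset.sum_eq_single 0]
  · simp [par, LinearMap.toMatrix_apply]
  · intro x _ hx
    have : -x ≠ x := fun e => hx (smul_right_injective _ h2 (by simp [two_smul, ← neg_eq_iff_add_eq_zero, e]))
    simp [par, LinearMap.toMatrix_apply, this]
  · simp

theorem finrank_eig (h2 : (2 : F) ≠ 0) {ε : ℂ} (hε : ε * ε = 1) :
    2 * (finrank ℂ ((par ι F).eigenspace ε) : ℂ) = Fintype.card F ^ Fintype.card ι + ε := by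
  have h : LinearMap.IsProj ((par ι F).eigenspace ε) ((2⁻¹ : ℂ) • (1 + ε • par ι F)) := ⟨fun f => by
    rw [End.mem_eigenspace_iff]
    funext x
    simp [par]
    linear_combination (-2⁻¹ * f (-x)) * hε, fun f hf => by
    simp [End.mem_eigenspace_iff.1 hf, smul_smul, hε, mul_assoc, ← add_smul]
    norm_num⟩
  rw [← h.trace]
  simp [trace_par h2, mul_add]

theorem Imp.comm (h2 : (2 : F) ≠ 0) (hψ : ψ ≠ 1) {g : Matrix (ι ⊕ ι) (ι ⊕ ι) F} {A : End ℂ ((ι → F) → ℂ)}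
    (hA : Imp ψ (g *ᵥ ·) A) : Commute (par ι F) A := by
  obtain ⟨c, hc⟩ := (hA.mul imp_par).uniq h2 hψ (B := par ι F * A) (by
    convert imp_par.mul hA using 1
    funext v
    simp [mulVec_neg])
  obtain ⟨A, rfl⟩ := hA.1
  have := congrArg (fun x => LinearMap.trace ℂ _ ((A⁻¹).1 * x)) hc
  simp only [mul_smul_comm, Units.inv_mul_cancel_left, map_smul, trace_par h2] at this
  rw [LinearMap.trace_mul_comm, Units.mul_inv_cancel_right, trace_par h2, smul_eq_mul, mul_one] at this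
  rw [← this, one_smul] at hc
  exact hc

theorem exists_weil [Nontrivial ι] (h2 : (2 : F) ≠ 0) : ∃ (V : Submodule ℂ ((ι → F) → ℂ))
    (ρ : symplecticGroup ι F →* End ℂ V), 2 * finrank ℂ V + 1 = Fintype.card F ^ Fintype.card ι ∧ ∃ g, ρ g ≠ 1 := by
  obtain ⟨ψ, hψ⟩ := exists_complex_psi F
  let r := fun (ε : ℂ) (A : End ℂ ((ι → F) → ℂ)) (h : Commute (par ι F) A) =>
    A.restrict (End.mapsTo_genEigenspace_of_comm h ε 1)
  have hd : finrank ℂ ((par ι F).eigenspace 1) = finrank ℂ ((par ι F).eigenspace (-1)) + 1 := by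
    have h1 := finrank_eig (ι := ι) h2 (ε := 1) (by simp)
    have h3 := finrank_eig (ι := ι) h2 (ε := -1) (by simp)
    exact_mod_cast (show (finrank ℂ ((par ι F).eigenspace 1) : ℂ) = finrank ℂ ((par ι F).eigenspace (-1)) + 1 by
      linear_combination (h1 - h3) / 2)
  have hne : ∀ ε A h, IsUnit A → LinearMap.det (r ε A h) ≠ 0 := fun ε A h hA h0 => by
    rw [LinearMap.det_eq_zero_iff_ker_ne_bot] at h0
    exact h0 (LinearMap.ker_eq_bot.2 fun x y e =>
      Subtype.ext (((Module.End.isUnit_iff _).1 hA).1 (congrArg Subtype.val e)))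
  have hs : ∀ ε A h (c : ℂ), LinearMap.det (r ε (c • A) (h.smul_right c)) =
      c ^ finrank ℂ ((par ι F).eigenspace ε) * LinearMap.det (r ε A h) := fun ε A h c => LinearMap.det_smul c (r ε A h)
  let N := fun (g : symplecticGroup ι F) A => ∃ h : Imp ψ (g.1 *ᵥ ·) A,
    LinearMap.det (r 1 A (h.comm h2 hψ)) = LinearMap.det (r (-1) A (h.comm h2 hψ))
  have hN : ∀ g, ∃ A, N g A := fun g => by
    obtain ⟨A, hA⟩ := exists_imp h2 hψ g
    have h1 := hne 1 A (hA.comm h2 hψ) hA.1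
    have h3 := div_ne_zero (hne (-1) A (hA.comm h2 hψ) hA.1) h1
    refine ⟨(_ / _ : ℂ) • A, ⟨hA.1.smul (Units.mk0 _ h3), fun v => by simp [hA.2]⟩, ?_⟩
    rw [hs 1 _ (hA.comm h2 hψ), hs (-1) _ (hA.comm h2 hψ), hd, pow_succ, mul_assoc, div_mul_cancel₀ _ h1]
  have hU : ∀ g A B, N g A → N g B → B = A := by
    rintro g A B ⟨hA, h1⟩ ⟨hB, h3⟩
    obtain ⟨c, rfl⟩ := hA.uniq h2 hψ hB
    have hc : c ≠ 0 := by rintro rfl; simpa using hB.1
    rw [hs 1 _ (hA.comm h2 hψ), hs (-1) _ (hA.comm h2 hψ), hd, h1, mul_left_inj' (hne _ _ (hA.comm h2 hψ) hA.1), pow_succ,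
      mul_eq_left₀ (pow_ne_zero _ hc)] at h3
    rw [h3, one_smul]
  choose A hA using hN
  have h1 : A 1 = 1 := hU _ _ _ ⟨⟨isUnit_one, by simp⟩, (map_one LinearMap.det).trans (map_one LinearMap.det).symm⟩ (hA 1)
  have hm : ∀ g h, A (g * h) = A g * A h := fun g h => hU _ _ _ ⟨by
    convert (hA g).1.mul (hA h).1 using 1
    funext v
    simp, (map_mul LinearMap.det (r 1 _ ((hA g).1.comm h2 hψ)) (r 1 _ ((hA h).1.comm h2 hψ))).trans (by
      rw [(hA g).2, (hA h).2, ← map_mul]; rfl)⟩ (hA _)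
  refine ⟨(par ι F).eigenspace (-1), ⟨⟨fun g => r (-1) (A g) ((hA g).1.comm h2 hψ), ?_⟩, fun g h => ?_⟩, ?_,
    SymplecticGroup.symJ ι F, fun h => ?_⟩
  · exact LinearMap.ext fun x => Subtype.ext (LinearMap.congr_fun h1 x.1)
  · exact LinearMap.ext fun x => Subtype.ext (LinearMap.congr_fun (hm g h) x.1)
  · have h3 := finrank_eig (ι := ι) h2 (ε := -1) (by simp)
    exact_mod_cast (show 2 * (finrank ℂ ((par ι F).eigenspace (-1)) : ℂ) + 1 = Fintype.card F ^ Fintype.card ι by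
      linear_combination h3)
  · have h3 : ∀ f ∈ (par ι F).eigenspace (-1), A (SymplecticGroup.symJ ι F) f = f := fun f hf =>
      congrArg Subtype.val (LinearMap.congr_fun h ⟨f, hf⟩)
    obtain ⟨i, j, hij⟩ := exists_pair_ne ι
    let y : ι → F := Pi.single j 1
    let a : ι → F := Pi.single i 1
    let v : ι ⊕ ι → F := Sum.elim 0 a
    have hf : Pi.single y 1 - Pi.single (-y) 1 ∈ (par ι F).eigenspace (-1) := End.mem_eigenspace_iff.2 (by
      funext x
      simp [par, Pi.single_apply, neg_eq_iff_eq_neg])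
    have h4 := h3 _ (End.mapsTo_genEigenspace_of_comm (g := weyl ψ v + weyl ψ (-v)) (by
      rw [Commute, SemiconjBy, mul_add, add_mul, imp_par.2, imp_par.2, neg_neg, add_comm]) (-1) 1 hf)
    rw [← End.mul_apply, mul_add, (hA _).1.2, (hA _).1.2, ← add_mul, End.mul_apply, h3 _ hf] at h4
    have h5 := congrFun h4 (y + a)
    have e1 : (SymplecticGroup.symJ ι F).1 *ᵥ v = Sum.elim (-a) 0 := by simp [J, v, fromBlocks_mulVec, neg_mulVec]
    have hy : ∀ s t : F, y + s • a ≠ t • y ∨ s = 0 := fun s t => by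
      by_contra! h
      exact h.2 (by simpa [y, a, hij] using congrFun h.1 i)
    have e2 := (hy 1 1).resolve_right one_ne_zero
    have e3 := (hy 1 (-1)).resolve_right one_ne_zero
    have e4 := (hy 2 1).resolve_right h2
    have e5 := (hy 2 (-1)).resolve_right h2
    have e6 : y ≠ -y := fun e => h2 (by simpa [y, eq_neg_iff_add_eq_zero, one_add_one_eq_two] using congrFun e j)
    simp only [one_smul, neg_smul, two_smul, ← add_assoc] at e2 e3 e4 e5
    simp only [mulVec_neg, e1] at h5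
    simp [weyl_apply, v, Pi.neg_comp, e2, e3, e4, e5, e6] at h5

end Cfsg.Agent.Deg
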