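import Cfsg.Agent.Sig.Quasi
import Mathlib.NumberTheory.LegendreSymbol.AddCharacter
import Mathlib.RepresentationTheory.Irreducible

/-!
Weight spaces of abelian unipotent subgroups in cross characteristic (lead): `wt ρ ψ u L`, existence (`exists_wt`),
independence (`card_mul_le`), transport (`finrank_wt_le`), the Heisenberg bound (`heis`) and the bound for Siegel-type
radicals (`sieg_bound`).
-/

set_option autoImplicit false

namespace Cfsg.Agent.Deg

open Module Matrix

section Wt
variable {G : Type*} [Group G] {K : Type*} [Field K] {V : Type*} [AddCommGroup V] [Module K V]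
  {F : Type*} [Field F] {M : Type*} [AddCommGroup M] [Module F M]

theorem eigen_indep {T : Type*} [AddCommGroup T] {ι : Type*} [Fintype ι] {χ : ι → AddChar T K}
    (hχ : Function.Injective χ) (A : T → V →ₗ[K] V) (x : ι → V) (hx : ∀ i c, A c (x i) = χ i c • x i)
    (h : ∑ i, x i = 0) (i : ι) : x i = 0 := by
  rw [← Module.forall_dual_apply_eq_zero_iff K]
  intro f
  refine Fintype.linearIndependent_iff.1 ((linearIndependent_monoidHom (Multiplicative T) K).comp
    (fun i => (χ i).toMonoidHom) (AddChar.toMonoidHomEquiv.injective.comp hχ)) (fun i => f (x i)) ?_ i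
  ext c
  have := congrArg (fun v => f (A c.toAdd v)) h
  simpa [hx, mul_comm] using this

theorem heis [FiniteDimensional K V] [Nontrivial V] {T : Type*} [AddCommGroup T] [Finite T] {χ : T → AddChar T K}
    (hχ : Function.Injective χ) (A A' : T → End K V) (h1 : ∀ t, A' t * A t = 1) (h2 : ∀ t, A t * A' t = 1)
    (h : ∀ s t, A s * A t = χ t s • (A t * A s)) : Nat.card T ≤ finrank K V ^ 2 := by
  have := Fintype.ofFinite T
  have hli : LinearIndependent K A := by
    rw [Fintype.linearIndependent_iff]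
    intro g hg t
    have := eigen_indep hχ (fun c => LinearMap.mulLeftRight K (A c, A' c)) (fun t => g t • A t) (fun t c => by
      rw [map_smul, smul_comm, LinearMap.mulLeftRight_apply, h, smul_mul_assoc, mul_assoc, h2, mul_one]) hg t
    refine (smul_eq_zero.1 this).resolve_right fun h0 => ?_
    have := h1 t
    rw [h0, mul_zero] at this
    exact zero_ne_one this
  have h2 := hli.fintype_card_le_finrank
  rwa [Module.finrank_linearMap, ← sq, ← Nat.card_eq_fintype_card] at h2

/-- The weight space of the character `ψ ∘ L`. -/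
def wt (ρ : G →* End K V) (ψ : AddChar F K) (u : M → G) (L : Dual F M) : Submodule K V where
  carrier := {v | ∀ a, ρ (u a) v = ψ (L a) • v}
  zero_mem' := by simp
  add_mem' {v w} hv hw b := by rw [map_add, hv, hw, smul_add]
  smul_mem' c v hv b := by rw [map_smul, hv, smul_comm]

variable {ρ : G →* End K V} {ψ : AddChar F K} {u : M → G}

theorem mem_wt {L : Dual F M} {v : V} : v ∈ wt ρ ψ u L ↔ ∀ a, ρ (u a) v = ψ (L a) • v := Iff.rfl

theorem eq_of_psi (hψ : ψ ≠ 1) {a b : F} (h : ∀ c, ψ (c * a) = ψ (c * b)) : a = b :=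
  AddChar.to_mulShift_inj_of_isPrimitive (AddChar.IsPrimitive.of_ne_one hψ) (AddChar.ext _ _ fun c => by
    simpa only [AddChar.mulShift_apply, mul_comm] using h c)

theorem comp_injective (hψ : ψ ≠ 1) :
    Function.Injective fun L : Dual F M => ψ.compAddMonoidHom L.toAddMonoidHom := fun L L' h =>
  LinearMap.ext fun a => eq_of_psi hψ fun c => by simpa using DFunLike.congr_fun h (c • a)

theorem finite_dual [Finite F] [Finite M] : Finite (Dual F M) :=
  Finite.of_injective (fun L : Dual F M => (L : M → F)) DFunLike.coe_injective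

theorem exists_wt [Fintype F] [Finite M] (hψ : ψ ≠ 1) (hK : (Fintype.card F : K) ≠ 0)
    (hadd : ∀ a b, u (a + b) = u a * u b) {a₀ : M} (h : ρ (u a₀) ≠ 1) : ∃ L, L a₀ ≠ 0 ∧ wt ρ ψ u L ≠ ⊥ := by
  classical
  have := Fintype.ofFinite M
  have := finite_dual (F := F) (M := M)
  have := Fintype.ofFinite (Dual F M)
  by_contra! hn
  have h0 : u 0 = 1 := by simpa using hadd 0 0
  have key : ∀ (v : V) (L : Dual F M), ∑ b, ψ (-L b) • ρ (u b) v ∈ wt ρ ψ u L := by
    intro v L c
    rw [map_sum, Finset.smul_sum, ← Equiv.sum_comp (Equiv.addLeft c) fun b => ψ (L c) • ψ (-L b) • ρ (u b) v]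
    refine Finset.sum_congr rfl fun b _ => ?_
    rw [map_smul, ← Module.End.mul_apply, ← map_mul, ← hadd, smul_smul, ← AddChar.map_add_eq_mul]
    simp
  refine h (LinearMap.ext fun v => ?_)
  have h2 : ∑ L : Dual F M, ∑ b, ψ (-L b) • ρ (u b) v = (Fintype.card (Dual F M) : K) • v := by
    rw [Finset.sum_comm, Finset.sum_eq_single 0 (fun b _ hb => ?_) (by simp)]
    · simp [h0, Nat.cast_smul_eq_nsmul]
    · rw [← Finset.sum_smul]
      have : ∑ L : Dual F M, ψ (-L b) = 0 := by
        refine AddChar.sum_eq_zero_of_ne_one (ψ := ψ.compAddMonoidHom (-Dual.eval F M b).toAddMonoidHom) fun e => ?_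
        obtain ⟨L, hL⟩ := Module.Projective.exists_dual_ne_zero F hb
        refine hL (neg_eq_zero.1 (eq_of_psi hψ fun c => ?_))
        simpa using DFunLike.congr_fun e (c • L)
      rw [this, zero_smul]
  have h3 : ρ (u a₀) ((Fintype.card (Dual F M) : K) • v) = (Fintype.card (Dual F M) : K) • v := by
    rw [← h2, map_sum]
    refine Finset.sum_congr rfl fun L _ => ?_
    by_cases hL : L a₀ = 0
    · rw [key v L a₀, hL, AddChar.map_zero_eq_one, one_smul]
    · have := key v L
      rw [hn L hL, Submodule.mem_bot] at this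
      rw [this, map_zero]
  rw [map_smul] at h3
  refine smul_right_injective _ ?_ h3
  rw [Module.card_eq_pow_finrank (K := F), Nat.cast_pow]
  exact pow_ne_zero _ hK

theorem card_mul_le [FiniteDimensional K V] (hψ : ψ ≠ 1) (S : Finset (Dual F M)) {d : ℕ}
    (h : ∀ L ∈ S, d ≤ finrank K (wt ρ ψ u L)) : S.card * d ≤ finrank K V := by
  let f : (∀ L : S, wt ρ ψ u L) →ₗ[K] V := ∑ L : S, (wt ρ ψ u L).subtype ∘ₗ LinearMap.proj L
  have hf : Function.Injective f := by
    rw [injective_iff_map_eq_zero]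
    intro x hx
    ext L
    exact eigen_indep (χ := fun L : S => ψ.compAddMonoidHom L.1.toAddMonoidHom)
      ((comp_injective hψ).comp Subtype.val_injective) (fun b => ρ (u b)) (fun L => (x L : V))
      (fun L b => (x L).2 b) (by simpa [f] using hx) L
  have h3 := LinearMap.finrank_le_finrank_of_injective hf
  rw [Module.finrank_pi_fintype] at h3
  refine le_trans ?_ ((Finset.sum_le_sum fun (L : S) _ => h L L.2).trans h3)
  simp

theorem rho_injective (g : G) : Function.Injective (ρ g) := fun v w h => by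
  have := congrArg (ρ g⁻¹) h
  rwa [← Module.End.mul_apply, ← Module.End.mul_apply, ← map_mul, inv_mul_cancel, map_one] at this

theorem finrank_wt_le [FiniteDimensional K V] {g : G} {θ : M →ₗ[F] M} (h : ∀ a, g * u a * g⁻¹ = u (θ a))
    (L : Dual F M) : finrank K (wt ρ ψ u L) ≤ finrank K (wt ρ ψ u (L ∘ₗ θ)) := by
  refine LinearMap.finrank_le_finrank_of_injective (f := (ρ g⁻¹).restrict fun v hv a => ?_) fun v w e =>
    Subtype.ext (rho_injective g⁻¹ (congrArg Subtype.val e))
  rw [← Module.End.mul_apply, ← map_mul, show u a * g⁻¹ = g⁻¹ * u (θ a) by rw [← h]; group, map_mul,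
    Module.End.mul_apply, hv, map_smul]
  rfl

theorem wt_ne_bot [FiniteDimensional K V] {g : G} {θ : M →ₗ[F] M} (h : ∀ a, g * u a * g⁻¹ = u (θ a))
    {L : Dual F M} (hL : wt ρ ψ u L ≠ ⊥) : wt ρ ψ u (L ∘ₗ θ) ≠ ⊥ := by
  rw [Ne, ← Submodule.finrank_eq_zero] at hL ⊢
  have := finrank_wt_le (ρ := ρ) (ψ := ψ) h L
  omega

theorem psi_eq_of_wt {L : Dual F M} (hL : wt ρ ψ u L ≠ ⊥) {a b : M} (h : u a = u b) : ψ (L a) = ψ (L b) := by
  obtain ⟨v, hv, h0⟩ := (Submodule.ne_bot_iff _).1 hL
  exact smul_left_injective K h0 (show ψ (L a) • v = ψ (L b) • v by rw [← hv, ← hv, h])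

theorem card_ker [Fintype F] [Fintype M] [DecidableEq F] {φ : Dual F M} (h : φ ≠ 0) :
    (Finset.univ.filter fun x => φ x = 0).card = Fintype.card F ^ (finrank F M - 1) := by
  have h1 := Module.Dual.finrank_ker_add_one_of_ne_zero h
  have h2 := Module.natCard_eq_pow_finrank (K := F) (V := LinearMap.ker φ)
  rw [← h1, Nat.add_sub_cancel, ← Nat.card_eq_fintype_card, ← h2, ← Fintype.card_subtype, ← Nat.card_eq_fintype_card]
  rfl

theorem exists_psi [Finite F] {ψ₀ : AddChar F K} (h₀ : ψ₀ ≠ 1) (σ : F →+* F) (hσ : ∀ x, σ (σ x) = x)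
    (hx : ∃ x, x + σ x ≠ 0) : ∃ ψ : AddChar F K, ψ ≠ 1 ∧ ∀ x, ψ (σ x) = ψ x := by
  obtain ⟨x, hx⟩ := hx
  obtain ⟨y, hy⟩ := AddChar.ne_one_iff.1 h₀
  refine ⟨ψ₀.compAddMonoidHom ((AddMonoidHom.mulLeft (y / (x + σ x))).comp (AddMonoidHom.id F + σ.toAddMonoidHom)),
    AddChar.ne_one_iff.2 ⟨x, ?_⟩, fun z => ?_⟩
  · simpa [div_mul_cancel₀ y hx] using hy
  · simp [hσ, add_comm]

/-- A proper normal subgroup of a quasisimple group is central. -/
theorem ker_le_center (hG : IsQuasisimple G) {H : Type*} [MulOneClass H] (f : G →* H) {g : G} (hg : f g ≠ 1) :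
    f.ker ≤ Subgroup.center G := by
  rcases hG.2.eq_bot_or_eq_top_of_normal (f.ker.map (QuotientGroup.mk' (Subgroup.center G)))
    (Subgroup.Normal.map inferInstance _ (QuotientGroup.mk'_surjective _)) with h | h
  · rwa [Subgroup.map_eq_bot_iff, QuotientGroup.ker_mk'] at h
  · exfalso
    have h1 : ∀ x, ∃ k ∈ f.ker, ∃ z ∈ Subgroup.center G, k * z = x := fun x => by
      obtain ⟨k, hk, e⟩ : QuotientGroup.mk' (Subgroup.center G) x ∈ f.ker.map (QuotientGroup.mk' (Subgroup.center G)) := by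
        rw [h]; trivial
      obtain ⟨z, hz, e⟩ := (QuotientGroup.mk'_eq_mk' _).1 e
      exact ⟨k, hk, z, hz, e⟩
    have h2 : commutator G ≤ f.ker := Subgroup.commutator_le.2 fun a _ b _ => by
      obtain ⟨k, hk, z, hz, rfl⟩ := h1 a
      rw [commutatorElement_def, mul_assoc k, ← Subgroup.mem_center_iff.1 hz b, _root_.mul_inv_rev]
      have := mul_mem hk (Subgroup.Normal.conj_mem inferInstance _ (inv_mem hk) b)
      convert this using 1
      group
    exact hg (h2 (hG.1.commutator_eq_top ▸ Subgroup.mem_top g))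

theorem exists_ne_one {k : ℕ} (ρ : Representation K G (Fin k → K)) (hρ : ρ.IsIrreducible) (hk : 2 ≤ k) :
    ∃ g, ρ g ≠ 1 := by
  by_contra! h
  let v : Fin k → K := Pi.single ⟨0, by omega⟩ 1
  rcases eq_bot_or_eq_top (⟨Submodule.span K {v}, fun g w hw => by rwa [h g]⟩ : Subrepresentation ρ) with h1 | h1
  · have h2 : Submodule.span K {v} = ⊥ := congrArg Subrepresentation.toSubmodule h1
    rw [Submodule.span_singleton_eq_bot] at h2
    simpa [v] using congrFun h2 ⟨0, by omega⟩
  · have h2 : Submodule.span K {v} = ⊤ := congrArg Subrepresentation.toSubmodule h1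
    have h3 := finrank_span_le_card (R := K) ({v} : Set (Fin k → K))
    rw [h2] at h3
    simp at h3
    omega

end Wt

section Sieg
variable {G : Type*} [Group G] {K : Type*} [Field K] {V : Type*} [AddCommGroup V] [Module K V]
  {F : Type*} [Field F] {ι : Type*} [Fintype ι] [DecidableEq ι]

/-- conjugate transpose. -/
def cT (σ : F →+* F) {κ : Type*} (Y : Matrix ι κ F) : Matrix κ ι F := (Y.map σ)ᵀ

/-- the form attached to a functional. -/
def frm (σ : F →+* F) (L : Dual F (Matrix ι ι F)) (v w : ι → F) : F := L (vecMulVec v (σ ∘ w))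

/-- `Y ↦ g Y g*`. -/
def cj (σ : F →+* F) (g : Matrix ι ι F) : Matrix ι ι F →ₗ[F] Matrix ι ι F := LinearMap.mulLeftRight F (g, cT σ g)

variable {σ : F →+* F} {L : Dual F (Matrix ι ι F)}

theorem cj_apply (g Y : Matrix ι ι F) : cj σ g Y = g * Y * cT σ g := rfl

theorem frm_cj (g : Matrix ι ι F) (v w : ι → F) : frm σ (L ∘ₗ cj σ g) v w = frm σ L (g *ᵥ v) (g *ᵥ w) := by
  simp only [frm, LinearMap.comp_apply, cj_apply, mul_vecMulVec, vecMulVec_mul, cT, vecMul_transpose]
  congr 2
  funext i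
  simp [mulVec, dotProduct]

theorem frm_add_smul (v v' w : ι → F) (c : F) : frm σ L (v + c • v') w = frm σ L v w + c * frm σ L v' w := by
  simp [frm, add_vecMulVec, smul_vecMulVec]

theorem frm_add_smul' (v w w' : ι → F) (c : F) : frm σ L v (w + c • w') = frm σ L v w + σ c * frm σ L v w' := by
  have : σ ∘ (w + c • w') = σ ∘ w + σ c • σ ∘ w' := by funext i; simp
  simp [frm, this, vecMulVec_add, vecMulVec_smul]

theorem eq_zero_of_frm (h : ∀ v w, frm σ L v w = 0) : L = 0 := by
  refine LinearMap.ext fun Y => ?_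
  rw [matrix_eq_sum_single Y]
  simp only [map_sum, LinearMap.zero_apply, Finset.sum_const_zero]
  refine Finset.sum_eq_zero fun i _ => Finset.sum_eq_zero fun j _ => ?_
  have := h (Pi.single i (Y i j)) (Pi.single j 1)
  rw [frm] at this
  convert this using 2
  ext a b
  simp only [single_apply, vecMulVec_apply, Function.comp_apply, Pi.single_apply]
  by_cases h1 : i = a <;> by_cases h2 : j = b <;> simp [h1, h2, eq_comm]

theorem frm_symm {ρ : G →* End K V} {ψ : AddChar F K} {u : Matrix ι ι F → G} (hψ : ψ ≠ 1)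
    (hσ : ∀ x, σ (σ x) = x) (hψσ : ∀ x, ψ (σ x) = ψ x) (hstar : ∀ Y, u (cT σ Y) = u Y) (hL : wt ρ ψ u L ≠ ⊥)
    (v w : ι → F) : frm σ L w v = σ (frm σ L v w) := by
  refine eq_of_psi hψ fun c => ?_
  have := psi_eq_of_wt hL (hstar (σ c • vecMulVec v (σ ∘ w)))
  rw [show cT σ (σ c • vecMulVec v (σ ∘ w)) = c • vecMulVec w (σ ∘ v) by
    ext a b; simp [cT, vecMulVec_apply, hσ, mul_comm], L.map_smul, L.map_smul, smul_eq_mul, smul_eq_mul] at this
  rw [← hψσ (c * σ _), map_mul σ, hσ]
  exact this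

theorem exists_frm_ne (hx : ∃ x, x + σ x ≠ 0) (hs : ∀ v w, frm σ L w v = σ (frm σ L v w)) (h0 : L ≠ 0) :
    ∃ e, frm σ L e e ≠ 0 := by
  by_contra! h
  obtain ⟨x, hx⟩ := hx
  refine h0 (eq_zero_of_frm (σ := σ) fun v w => ?_)
  by_contra hb
  have := h (w + (x / frm σ L v w) • v)
  rw [frm_add_smul, frm_add_smul', frm_add_smul', h, h, hs v w, ← map_mul, div_mul_cancel₀ _ hb] at this
  refine hx (mul_right_cancel₀ hb ?_)
  field_simp at this
  linear_combination this

theorem card_frm_le [Fintype F] [DecidableEq F] (hs : ∀ v w, frm σ L w v = σ (frm σ L v w)) {N : ℕ}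
    (hN : ∀ c, (Finset.univ.filter fun t => t * σ t = c).card ≤ N) {e : ι → F} (he : frm σ L e e ≠ 0) (a : F) :
    (Finset.univ.filter fun y => frm σ L y y = a).card ≤ N * Fintype.card F ^ (Fintype.card ι - 1) := by
  let φ : Dual F (ι → F) :=
    { toFun := fun y => frm σ L y e
      map_add' := fun x y => by simpa using frm_add_smul x y e 1
      map_smul' := fun c y => by simp [frm, smul_vecMulVec] }
  have hφ : φ ≠ 0 := fun h => he (LinearMap.congr_fun h e)
  have hc := card_ker hφ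
  rw [finrank_fintype_fun_eq_card] at hc
  rw [← hc]
  refine Finset.card_le_mul_card_image_of_maps_to (f := fun y => y + (-(φ y / φ e)) • e) (fun y _ => ?_) N
    fun h hh => ?_
  · have : φ e ≠ 0 := he
    simp [this]
  · have h0 : frm σ L h e = 0 := (Finset.mem_filter.1 hh).2
    refine le_trans (Finset.card_le_card_of_injOn (fun y => φ y / φ e) (fun y hy => ?_) fun y hy y' hy' e' => ?_)
      (hN ((a - frm σ L h h) / φ e))
    · obtain ⟨h1, h2⟩ := Finset.mem_filter.1 hy
      have h3 : y = h + (φ y / φ e) • e := by rw [← h2]; simp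
      have h4 := (Finset.mem_filter.1 h1).2
      rw [h3, frm_add_smul, frm_add_smul', frm_add_smul', hs h e, h0] at h4
      simp only [Finset.coe_filter, Finset.mem_univ, true_and, Set.mem_ofPred_eq]
      rw [eq_div_iff (show φ e ≠ 0 from he), ← h4]
      simp only [map_zero]
      change _ * frm σ L e e = _
      ring
    · have h2 := (Finset.mem_filter.1 hy).2
      have h3 := (Finset.mem_filter.1 hy').2
      simp only at e'
      rw [e', ← h3] at h2
      exact add_right_cancel h2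

theorem sieg_bound [Fintype F] [DecidableEq F] [FiniteDimensional K V] {ρ : G →* End K V} {ψ : AddChar F K}
    {u : Matrix ι ι F → G} (hψ : ψ ≠ 1) (hK : (Fintype.card F : K) ≠ 0) (hσ : ∀ x, σ (σ x) = x)
    (hψσ : ∀ x, ψ (σ x) = ψ x) (hx : ∃ x, x + σ x ≠ 0) {N : ℕ}
    (hN : ∀ c, (Finset.univ.filter fun t => t * σ t = c).card ≤ N) (hadd : ∀ Y Z, u (Y + Z) = u Y * u Z)
    (hstar : ∀ Y, u (cT σ Y) = u Y)
    (htv : ∀ y φ : ι → F, φ ⬝ᵥ y = 0 → ∃ l : G, ∀ Y, l * u Y * l⁻¹ = u (cj σ (1 + vecMulVec y φ) Y))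
    (htr : ∀ y y' : ι → F, y ≠ 0 → y' ≠ 0 → ∃ g, g *ᵥ y = y' ∧ ∃ l : G, ∀ Y, l * u Y * l⁻¹ = u (cj σ g Y))
    {d : ℕ} (hd : ∀ L e, frm σ L e e ≠ 0 → wt ρ ψ u L ≠ ⊥ → d ≤ finrank K (wt ρ ψ u L)) {Y₀ : Matrix ι ι F}
    (h₀ : ρ (u Y₀) ≠ 1) : (Fintype.card F ^ Fintype.card ι - 1) * d ≤ N * finrank K V := by
  classical
  have := finite_dual (F := F) (M := Matrix ι ι F)
  have := Fintype.ofFinite (Dual F (Matrix ι ι F))
  obtain ⟨L₀, hL₀, hw⟩ := exists_wt hψ hK hadd h₀
  obtain ⟨e, he⟩ := exists_frm_ne hx (frm_symm hψ hσ hψσ hstar hw) fun h => hL₀ (by simp [h])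
  have he0 : e ≠ 0 := by rintro rfl; exact he (by simp [frm])
  let O := Finset.univ.filter fun L : Dual F (Matrix ι ι F) => wt ρ ψ u L ≠ ⊥ ∧ ∃ e, frm σ L e e ≠ 0
  have h1 := card_mul_le (ρ := ρ) (u := u) hψ O (d := d) fun L hL => by
    obtain ⟨h1, e, h2⟩ := (Finset.mem_filter.1 hL).2
    exact hd L e h2 h1
  have h2 := Finset.card_mul_le_card_mul (s := Finset.univ.erase (0 : ι → F)) (t := O)
    (fun y L => frm σ L y y = frm σ L₀ e e) (m := Fintype.card F ^ (Fintype.card ι - 1))
    (n := N * Fintype.card F ^ (Fintype.card ι - 1)) (fun y hy => ?_) fun L hL => ?_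
  · rw [Finset.card_erase_of_mem (Finset.mem_univ _), Finset.card_univ, Fintype.card_fun, ← mul_assoc] at h2
    have h3 := Nat.le_of_mul_le_mul_right h2 (pow_pos Fintype.card_pos _)
    calc _ ≤ O.card * N * d := Nat.mul_le_mul_right _ h3
      _ = N * (O.card * d) := by ring
      _ ≤ _ := Nat.mul_le_mul_left _ h1
  · have hy0 := Finset.ne_of_mem_erase hy
    obtain ⟨g, hg, l, hl⟩ := htr y e hy0 he0
    let φ : Dual F (ι → F) := (dotProductBilin F F).flip y
    have hφ : φ ≠ 0 := fun h => hy0 (funext fun i => by simpa [φ] using LinearMap.congr_fun h (Pi.single i 1))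
    have hc := card_ker hφ
    rw [finrank_fintype_fun_eq_card] at hc
    rw [← hc]
    have hv : ∀ x, φ x = 0 → (1 + vecMulVec y x) *ᵥ y = y := fun x hx => by
      have : x ⬝ᵥ y = 0 := hx
      simp [add_mulVec, vecMulVec_mulVec, this]
    refine Finset.card_le_card_of_injOn (fun x => (L₀ ∘ₗ cj σ g) ∘ₗ cj σ (1 + vecMulVec y x)) (fun x hx => ?_)
      fun x hx x' hx' e' => ?_
    · have hx := (Finset.mem_filter.1 hx).2
      obtain ⟨l', hl'⟩ := htv y x hx
      have : frm σ ((L₀ ∘ₗ cj σ g) ∘ₗ cj σ (1 + vecMulVec y x)) y y = frm σ L₀ e e := by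
        rw [frm_cj, hv x hx, frm_cj, hg]
      exact Finset.mem_filter.2 ⟨Finset.mem_filter.2 ⟨Finset.mem_univ _, wt_ne_bot hl' (wt_ne_bot hl hw), y,
        this ▸ he⟩, this⟩
    · funext i
      have := congrArg (fun L => frm σ L (Pi.single i 1) y) e'
      simp only [frm_cj, hv x (Finset.mem_filter.1 hx).2, hv x' (Finset.mem_filter.1 hx').2, add_mulVec, one_mulVec,
        vecMulVec_mulVec, dotProduct_single, mul_one, op_smul_eq_smul, mulVec_add, mulVec_smul, frm_add_smul,
        hg] at this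
      exact mul_right_cancel₀ he (add_left_cancel this)
  · obtain ⟨h1, e', h2⟩ := (Finset.mem_filter.1 hL).2
    refine le_trans (Finset.card_le_card fun y hy => ?_) (card_frm_le (frm_symm hψ hσ hψσ hstar h1) hN h2 (frm σ L₀ e e))
    exact Finset.mem_filter.2 ⟨Finset.mem_univ _, (Finset.mem_filter.1 hy).2⟩

end Sieg

end Cfsg.Agent.Deg
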